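import Cfsg.Prelude.Def_SporadicB
import Mathlib

/-!
# Double covers of small alternating groups

A central extension by a group of order two splits as soon as a subgroup of odd index in the
quotient lifts isomorphically (transfer).  For the alternating groups of degree at most seven this
shows that a double cover with a non-central involution is split.
-/

set_option autoImplicit false

namespace CfsgLib.SporMisc.DoubleCoverAlt

variable {H A : Type*} [Group H] [Group A]

/-- Transfer splitting for a central extension with kernel of order two. -/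
lemma exists_complement_of_lift [Finite H] (f : H →* A) (hf : Function.Surjective f) (z : H)
    (hz : f z = 1) (hker : ∀ h, f h = 1 → h = 1 ∨ h = z) (hz2 : z * z = 1)
    (hcen : ∀ h, h * z = z * h) (L : Subgroup H) (hzL : z ∉ L) (hidx : Odd (L.map f).index) :
    ∃ K : Subgroup H, f.ker.IsComplement' K := by
  classical
  set S := L.map f with hS
  set P := S.comap f with hP
  have hPidx : Odd P.index := by rwa [hP, Subgroup.index_comap_of_surjective _ hf]
  have hLP : L ≤ P := fun l hl => Subgroup.mem_map_of_mem f hl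
  have dich : ∀ p ∈ P, p ∈ L ∨ p * z ∈ L := by
    rintro p ⟨l, hl, hlp⟩
    rcases hker (p⁻¹ * l) (by rw [map_mul, map_inv, hlp, inv_mul_cancel]) with h | h
    · left; rwa [inv_mul_eq_one.1 h]
    · right
      rw [← h, mul_inv_cancel_left]; exact hl
  have excl : ∀ p, p ∈ L → p * z ∉ L := fun p hp h => hzL ((Subgroup.mul_mem_cancel_left L hp).1 h)
  have key : ∀ a b : P, ((a * b : P) : H) ∈ L ↔ ((a : H) ∈ L ↔ (b : H) ∈ L) := by
    intro a b
    constructor
    · intro hab
      exact ⟨fun ha => (Subgroup.mul_mem_cancel_left L ha).1 hab,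
        fun hb => (Subgroup.mul_mem_cancel_right L hb).1 hab⟩
    · intro h
      by_cases ha : (a : H) ∈ L
      · exact L.mul_mem ha (h.1 ha)
      · have hb : (b : H) ∉ L := fun hb => ha (h.2 hb)
        have ha' := (dich a a.2).resolve_left ha
        have hb' := (dich b b.2).resolve_left hb
        have : ((a : H) * z) * ((b : H) * z) = (a : H) * b := by
          calc (a : H) * z * (b * z) = a * (b * z) * z := by rw [mul_assoc, ← hcen, ← mul_assoc]
            _ = a * b * (z * z) := by group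
            _ = a * b := by rw [hz2, mul_one]
        simpa [this] using L.mul_mem ha' hb'
  let φ : P →* ℤˣ :=
    { toFun := fun p => if (p : H) ∈ L then 1 else -1
      map_one' := by simp [L.one_mem]
      map_mul' := fun a b => by
        simp only [key a b]
        by_cases ha : (a : H) ∈ L <;> by_cases hb : (b : H) ∈ L <;> simp [ha, hb] }
  have hkeyz : ∀ (k : ℕ) (g₀ : H), g₀⁻¹ * z ^ k * g₀ ∈ P → g₀⁻¹ * z ^ k * g₀ = z ^ k := by
    intro k g₀ _
    have hc : Commute g₀ z := hcen g₀
    rw [mul_assoc, ← (hc.pow_right k).eq, inv_mul_cancel_left]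
  have hzpow : z ^ P.index = z := by
    obtain ⟨k, hk⟩ := hPidx
    rw [hk, pow_succ, pow_mul, pow_two, hz2, one_pow, one_mul]
  let V : H →* ℤˣ := MonoidHom.transfer φ
  have hV : V z = -1 := by
    show MonoidHom.transfer φ z = -1
    rw [MonoidHom.transfer_eq_pow φ z hkeyz]
    show (if (z ^ P.index) ∈ L then (1 : ℤˣ) else -1) = -1
    rw [hzpow, if_neg hzL]
  refine ⟨V.ker, ?_⟩
  apply Subgroup.isComplement'_of_disjoint_and_mul_eq_univ
  · rw [Subgroup.disjoint_def]
    intro x hx hx'
    rcases hker x hx with h | h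
    · exact h
    · rw [h, MonoidHom.mem_ker, hV] at hx'
      exact absurd hx' (by decide)
  · rw [Set.eq_univ_iff_forall]
    intro x
    rcases Int.units_eq_one_or (V x) with h | h
    · exact ⟨1, Subgroup.one_mem _, x, h, one_mul x⟩
    · refine ⟨z, hz, z * x, ?_, ?_⟩
      · show z * x ∈ V.ker
        rw [MonoidHom.mem_ker, map_mul, hV, h]; decide
      · show z * (z * x) = x
        rw [← mul_assoc, hz2, one_mul]

/-- Two lifts that are involutions generate an isomorphic lift of the dihedral group they map to. -/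
lemma notMem_closure_pair (f : H →* A) (z : H) (hz : f z = 1) (hz1 : z ≠ 1) (a b : H)
    (ha : a * a = 1) (hb : b * b = 1) (m : ℕ) (hm : orderOf (f a * f b) = m)
    (hab : (a * b) ^ m = 1) (hne : f a ∉ Subgroup.zpowers (f a * f b)) :
    z ∉ Subgroup.closure ({a, b} : Set H) := by
  set r := a * b with hr
  have hra : a * r = b := by rw [hr, ← mul_assoc, ha, one_mul]
  have hbr : b * a = r⁻¹ := by
    rw [hr, mul_inv_rev, ← eq_inv_of_mul_eq_one_left hb, ← eq_inv_of_mul_eq_one_left ha]
  have main : ∀ x ∈ Subgroup.closure ({a, b} : Set H),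
      ∃ i : ℤ, x = r ^ i ∨ x = a * r ^ i := by
    intro x hx
    induction hx using Subgroup.closure_induction_left with
    | one => exact ⟨0, Or.inl (zpow_zero r).symm⟩
    | mul_left g hg y _ ih =>
      obtain ⟨i, rfl | rfl⟩ := ih
      · rcases hg with rfl | rfl
        · exact ⟨i, Or.inr rfl⟩
        · exact ⟨i + 1, Or.inr (by rw [add_comm, zpow_add, zpow_one, ← mul_assoc, hra])⟩
      · rcases hg with rfl | rfl
        · exact ⟨i, Or.inl (by rw [← mul_assoc, ha, one_mul])⟩
        · exact ⟨i - 1, Or.inl (by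
            rw [← mul_assoc, hbr, ← zpow_neg_one, ← zpow_add, neg_add_eq_sub])⟩
    | inv_mul_cancel g hg y _ ih =>
      obtain ⟨i, rfl | rfl⟩ := ih
      · rcases hg with rfl | rfl
        · exact ⟨i, Or.inr (by rw [← eq_inv_of_mul_eq_one_left ha])⟩
        · exact ⟨i + 1, Or.inr (by
            rw [← eq_inv_of_mul_eq_one_left hb, add_comm, zpow_add, zpow_one, ← mul_assoc, hra])⟩
      · rcases hg with rfl | rfl
        · exact ⟨i, Or.inl (by rw [← eq_inv_of_mul_eq_one_left ha, ← mul_assoc, ha, one_mul])⟩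
        · exact ⟨i - 1, Or.inl (by
            rw [← eq_inv_of_mul_eq_one_left hb, ← mul_assoc, hbr, ← zpow_neg_one, ← zpow_add,
              neg_add_eq_sub])⟩
  intro hzc
  obtain ⟨i, h | h⟩ := main z hzc
  · have h1 : (f a * f b) ^ i = 1 := by
      rw [← map_mul, ← hr, ← map_zpow, ← h, hz]
    obtain ⟨k, rfl⟩ : (m : ℤ) ∣ i := hm ▸ orderOf_dvd_iff_zpow_eq_one.2 h1
    exact hz1 (by rw [h, zpow_mul, zpow_natCast, hab, one_zpow])
  · apply hne
    have h1 : f a * (f a * f b) ^ i = 1 := by
      rw [← map_mul f a b, ← hr, ← map_zpow, ← map_mul, ← h, hz]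
    have e := eq_inv_of_mul_eq_one_left h1
    have hmem : ((f a * f b) ^ i)⁻¹ ∈ Subgroup.zpowers (f a * f b) :=
      Subgroup.inv_mem _ (Subgroup.zpow_mem _ (Subgroup.mem_zpowers _) _)
    exact (congrArg (fun y => y ∈ Subgroup.zpowers (f a * f b)) e).mpr hmem

open Equiv Equiv.Perm

lemma cycleType_of_involution {n : ℕ} (hn : n ≤ 7) {g : Perm (Fin n)} (hg : orderOf g = 2)
    (hs : Perm.sign g = 1) : g.cycleType = Multiset.replicate 2 2 := by
  obtain ⟨k, hk⟩ := Perm.cycleType_prime_order (σ := g) (by rw [hg]; exact Nat.prime_two)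
  rw [hg] at hk
  have hsum : g.cycleType.sum ≤ n := by
    rw [sum_cycleType]
    exact le_trans (Finset.card_le_univ _) (by simp)
  rw [hk, Multiset.sum_replicate, smul_eq_mul] at hsum
  rw [sign_of_cycleType, hk, Multiset.sum_replicate, Multiset.card_replicate, smul_eq_mul] at hs
  have hk3 : k ≤ 2 := by omega
  rw [hk]
  interval_cases k
  · exact absurd hs (by decide)
  · rfl
  · exact absurd hs (by decide)

lemma alternating_isConj {n : ℕ} (hn : n ≤ 7) (τ : Perm (Fin n)) (hτ : Perm.sign τ = -1)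
    (x u : alternatingGroup (Fin n)) (hx : orderOf x = 2) (hu : orderOf u = 2)
    (hcomm : τ * (u : Perm (Fin n)) * τ⁻¹ = u) : IsConj x u := by
  have hx' : orderOf (x : Perm (Fin n)) = 2 := by rw [Subgroup.orderOf_coe, hx]
  have hu' : orderOf (u : Perm (Fin n)) = 2 := by rw [Subgroup.orderOf_coe, hu]
  have hcc : IsConj (x : Perm (Fin n)) u := by
    rw [Equiv.Perm.isConj_iff_cycleType_eq, cycleType_of_involution hn hx' x.2,
      cycleType_of_involution hn hu' u.2]
  obtain ⟨c, hc⟩ := isConj_iff.1 hcc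
  rcases Int.units_eq_one_or (Perm.sign c) with h | h
  · exact isConj_iff.2 ⟨⟨c, h⟩, Subtype.ext (by simpa using hc)⟩
  · refine isConj_iff.2 ⟨⟨τ * c, ?_⟩, Subtype.ext ?_⟩
    · show Perm.sign (τ * c) = 1
      rw [map_mul, hτ, h]; decide
    · show τ * c * (x : Perm (Fin n)) * (τ * c)⁻¹ = u
      rw [mul_inv_rev]
      calc τ * c * (x : Perm (Fin n)) * (c⁻¹ * τ⁻¹) = τ * (c * x * c⁻¹) * τ⁻¹ := by group
        _ = u := by rw [hc, hcomm]

/-- Finite witness data: two double transpositions generating a subgroup of odd index. -/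
structure DihedralWitness (n : ℕ) where
  u : alternatingGroup (Fin n)
  v : alternatingGroup (Fin n)
  τ : Perm (Fin n)
  m : ℕ
  hu : orderOf u = 2
  hv : orderOf v = 2
  hm : orderOf (u * v) = m
  hm4 : m = 2 ∨ m = 4
  hne : u ∉ Subgroup.zpowers (u * v)
  hτ : Perm.sign τ = -1
  hτu : τ * (u : Perm (Fin n)) * τ⁻¹ = u
  odd_part : ∃ o, Odd o ∧ Nat.card (alternatingGroup (Fin n)) = 2 * m * o

lemma two_mul_dvd_card {n : ℕ} (w : DihedralWitness n) (S : Subgroup (alternatingGroup (Fin n)))
    (hu : w.u ∈ S) (hR : Subgroup.zpowers (w.u * w.v) ≤ S) :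
    2 * w.m ∣ Nat.card S := by
  set R := Subgroup.zpowers (w.u * w.v) with hRdef
  have huu : w.u * w.u = 1 := by rw [← pow_two, ← w.hu, pow_orderOf_eq_one]
  have hvv : w.v * w.v = 1 := by rw [← pow_two, ← w.hv, pow_orderOf_eq_one]
  have hnorm : w.u ∈ Subgroup.normalizer (R : Set (alternatingGroup (Fin n))) := by
    rw [Subgroup.mem_normalizer_iff]
    have key : ∀ x ∈ R, w.u * x * w.u⁻¹ ∈ R := by
      rintro x ⟨i, rfl⟩
      have hi : w.u * (w.u * w.v) ^ i * w.u⁻¹ = (w.u * w.v) ^ (-i) := by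
        rw [← conj_zpow, zpow_neg, ← inv_zpow, mul_inv_rev, ← eq_inv_of_mul_eq_one_left huu,
          ← eq_inv_of_mul_eq_one_left hvv, ← mul_assoc w.u w.u, huu, one_mul]
      show w.u * (w.u * w.v) ^ i * w.u⁻¹ ∈ R
      rw [hi]
      exact Subgroup.zpow_mem _ (Subgroup.mem_zpowers _) _
    intro x
    refine ⟨key x, fun h => ?_⟩
    have h2 := key _ h
    rwa [← eq_inv_of_mul_eq_one_left huu, ← mul_assoc, ← mul_assoc, huu, one_mul, mul_assoc, huu,
      mul_one] at h2
  set T := S ⊓ Subgroup.normalizer (R : Set (alternatingGroup (Fin n))) with hT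
  have hRT : R ≤ T := le_inf hR Subgroup.le_normalizer
  have : (R.subgroupOf T).Normal :=
    Subgroup.normal_subgroupOf_of_le_normalizer inf_le_right
  let q : T ⧸ R.subgroupOf T := QuotientGroup.mk ⟨w.u, hu, hnorm⟩
  have hq : orderOf q = 2 := by
    apply orderOf_eq_prime
    · rw [← QuotientGroup.mk_pow, QuotientGroup.eq_one_iff]
      show ((⟨w.u, hu, hnorm⟩ : T) ^ 2 : T) ∈ R.subgroupOf T
      rw [Subgroup.mem_subgroupOf, Subgroup.coe_pow]
      show w.u ^ 2 ∈ R
      rw [pow_two, huu]; exact R.one_mem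
    · intro h
      rw [QuotientGroup.eq_one_iff, Subgroup.mem_subgroupOf] at h
      exact w.hne h
  have h2 : 2 ∣ Nat.card (T ⧸ R.subgroupOf T) := hq ▸ orderOf_dvd_natCard q
  have hc : Nat.card T = Nat.card (T ⧸ R.subgroupOf T) * w.m := by
    rw [Subgroup.card_eq_card_quotient_mul_card_subgroup (R.subgroupOf T),
      Nat.card_congr (Subgroup.subgroupOfEquivOfLe hRT).toEquiv, hRdef, Nat.card_zpowers, w.hm]
  calc 2 * w.m ∣ Nat.card (T ⧸ R.subgroupOf T) * w.m := Nat.mul_dvd_mul_right h2 _
    _ = Nat.card T := hc.symm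
    _ ∣ Nat.card S := Subgroup.card_dvd_of_le inf_le_left

lemma complement_of_witness {n : ℕ} (hn : n ≤ 7) (w : DihedralWitness n) {H : Type*} [Group H]
    [Finite H] (f : H →* alternatingGroup (Fin n)) (hf : Function.Surjective f) (z : H)
    (hz : f z = 1) (hker : ∀ h, f h = 1 → h = 1 ∨ h = z) (hz2 : z * z = 1) (hz1 : z ≠ 1)
    (hcen : ∀ h, h * z = z * h) (x : H) (hx : orderOf x = 2) (hxz : x ≠ z) :
    ∃ K : Subgroup H, f.ker.IsComplement' K := by
  have hx1 : x ≠ 1 := fun h => by rw [h, orderOf_one] at hx; omega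
  have hfx : orderOf (f x) = 2 := by
    apply orderOf_eq_prime
    · rw [← map_pow, ← hx, pow_orderOf_eq_one, map_one]
    · intro h; rcases hker x h with h | h <;> contradiction
  -- every element over an involution of the quotient squares to one
  have sq : ∀ a : H, orderOf (f a) = 2 → a * a = 1 := by
    intro a ha
    have hc : IsConj (f x) (f a) :=
      (alternating_isConj hn w.τ w.hτ (f x) w.u hfx w.hu w.hτu).trans
        (alternating_isConj hn w.τ w.hτ (f a) w.u ha w.hu w.hτu).symm
    obtain ⟨c, hc⟩ := isConj_iff.1 hc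
    obtain ⟨g, rfl⟩ := hf c
    have hxx : x * x = 1 := by rw [← pow_two, ← hx, pow_orderOf_eq_one]
    have hy : (g * x * g⁻¹) * (g * x * g⁻¹) = 1 := by
      calc (g * x * g⁻¹) * (g * x * g⁻¹) = g * (x * x) * g⁻¹ := by group
        _ = 1 := by rw [hxx]; group
    have hfy : f ((g * x * g⁻¹)⁻¹ * a) = 1 := by
      rw [map_mul, map_inv, map_mul, map_mul, map_inv, hc, inv_mul_cancel]
    rcases hker _ hfy with h | h
    · rw [← inv_mul_eq_one.1 h]; exact hy
    · rw [inv_mul_eq_iff_eq_mul] at h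
      rw [h]
      calc g * x * g⁻¹ * z * (g * x * g⁻¹ * z) = (g * x * g⁻¹) * (g * x * g⁻¹) * (z * z) := by
            rw [mul_assoc (g * x * g⁻¹) z, ← hcen (g * x * g⁻¹ * z)]; group
        _ = 1 := by rw [hy, hz2, one_mul]
  obtain ⟨a, ha⟩ := hf w.u
  obtain ⟨b, hb⟩ := hf w.v
  have haa := sq a (ha ▸ w.hu)
  have hbb := sq b (hb ▸ w.hv)
  have hfab : f (a * b) = w.u * w.v := by rw [map_mul, ha, hb]
  have habm : (a * b) ^ w.m = 1 := by
    rcases w.hm4 with h | h
    · rw [h, pow_two]; exact sq _ (by rw [hfab, w.hm, h])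
    · rw [h, show (4 : ℕ) = 2 * 2 from rfl, pow_mul, pow_two ((a * b) ^ 2)]
      exact sq _ (by rw [map_pow, hfab, orderOf_pow, w.hm, h]; rfl)
  have hzL := notMem_closure_pair f z hz hz1 a b haa hbb w.m (by rw [ha, hb, w.hm]) habm
    (by rw [ha, hb]; exact w.hne)
  refine exists_complement_of_lift f hf z hz hker hz2 hcen _ hzL ?_
  set S := (Subgroup.closure ({a, b} : Set H)).map f with hS
  -- the image contains the dihedral group of order `2 * m`
  have hu : w.u ∈ S := ⟨a, Subgroup.subset_closure (by simp), ha⟩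
  have hv : w.v ∈ S := ⟨b, Subgroup.subset_closure (by simp), hb⟩
  have hR : Subgroup.zpowers (w.u * w.v) ≤ S := Subgroup.zpowers_le.2 (S.mul_mem hu hv)
  have h2 : 2 * w.m ∣ Nat.card S := two_mul_dvd_card w S hu hR
  obtain ⟨o, ho, hA⟩ := w.odd_part
  have hmul := Subgroup.card_mul_index S
  obtain ⟨d, hd⟩ := h2
  rw [hA, hd, mul_assoc (2 * w.m)] at hmul
  have h2m : 2 * w.m ≠ 0 := by rcases w.hm4 with h | h <;> omega
  exact Nat.Odd.of_mul_right (Nat.eq_of_mul_eq_mul_left (Nat.pos_of_ne_zero h2m) hmul ▸ ho)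

end CfsgLib.SporMisc.DoubleCoverAlt
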