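import Cfsg.Prelude.Def_SporadicB
import Mathlib

/-!
# A double cover of the alternating group of degree eight

Inside the `16 × 16` matrices over `ZMod 3` eight monomial matrices `e k` with square `1`
anticommute pairwise.  The products of pairs of differences `e i - e j` generate a group whose
action by conjugation on the `e k` is the alternating group, with kernel `{1, -1}`.
-/

set_option autoImplicit false

namespace CfsgLib.SporMisc.DoubleCoverAlt

open Equiv Equiv.Perm

abbrev V16 : Type := Fin 16
abbrev Mat16 : Type := Matrix V16 V16 (ZMod 3)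

/-- Parity of the binary dot product. -/
def dot (a b : V16) : Bool :=
  let x := a.val &&& b.val
  (x % 2 + x / 2 % 2 + x / 4 % 2 + x / 8) % 2 == 1

/-- The sign attached to a binary dot product. -/
def sgn (a b : V16) : ZMod 3 := if dot a b then -1 else 1

lemma sgn_xor : ∀ b g c : V16, sgn b (g ^^^ c) = sgn b g * sgn b c := by decide +kernel

lemma sgn_xor_left : ∀ b c g : V16, sgn (b ^^^ c) g = sgn b g * sgn c g := by decide +kernel

lemma sgn_zero : ∀ g : V16, sgn 0 g = 1 := by decide +kernel

lemma xor_assoc' : ∀ a b c : V16, (a ^^^ b) ^^^ c = a ^^^ (b ^^^ c) := by decide +kernel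

lemma xor_comm' : ∀ a b : V16, a ^^^ b = b ^^^ a := by decide +kernel

lemma xor_self' : ∀ a : V16, a ^^^ a = 0 := by decide +kernel

lemma xor_zero' : ∀ a : V16, a ^^^ 0 = a := by decide +kernel

/-- The signed shift `X^a Z^b`. -/
def op (a b : V16) : Mat16 := fun f g => if f = g ^^^ a then sgn b g else 0

lemma op_mul (a b c d : V16) : op a b * op c d = sgn b c • op (a ^^^ c) (b ^^^ d) := by
  ext f g
  rw [Matrix.mul_apply, Finset.sum_eq_single (g ^^^ c)]
  · rw [Matrix.smul_apply]
    simp only [op, if_true]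
    rw [xor_assoc', xor_comm' c a, smul_eq_mul]
    split
    · rw [sgn_xor, sgn_xor_left]; ring
    · simp
  · intro h _ hh
    simp [op, hh]
  · intro h; exact absurd (Finset.mem_univ _) h

lemma op_zero : op 0 0 = 1 := by
  ext f g
  simp [op, sgn_zero, Matrix.one_apply]

def genA : Fin 8 → V16 := ![0, 1, 3, 5, 7, 9, 11, 13]
def genB : Fin 8 → V16 := ![1, 0, 3, 7, 13, 15, 9, 11]

lemma gen_table : ∀ j k : Fin 8,
    sgn (genB j) (genA k) * sgn (genB k) (genA j) = (if j = k then 1 else -1) := by decide +kernel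

lemma gen_sq_table : ∀ k : Fin 8, sgn (genB k) (genA k) = 1 := by decide +kernel

/-- The eight anticommuting generators. -/
def e (k : Fin 8) : Mat16 := op (genA k) (genB k)

lemma e_sq (k : Fin 8) : e k * e k = 1 := by
  rw [e, op_mul, gen_sq_table, one_smul, xor_self', xor_self', op_zero]

lemma sgn_sq : ∀ b c : V16, sgn b c * sgn b c = 1 := by decide +kernel

lemma e_anti {j k : Fin 8} (h : j ≠ k) : e j * e k = -(e k * e j) := by
  rw [e, e, op_mul, op_mul, xor_comm' (genA j), xor_comm' (genB j), ← neg_smul]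
  congr 1
  have h1 := gen_table j k
  rw [if_neg h] at h1
  calc sgn (genB j) (genA k) = sgn (genB j) (genA k) * sgn (genB k) (genA j)
        * sgn (genB k) (genA j) := by rw [mul_assoc, sgn_sq, mul_one]
    _ = -sgn (genB k) (genA j) := by rw [h1, neg_one_mul]

lemma two_ne_zero' : (2 : ZMod 3) ≠ 0 := by decide

lemma e_injective : Function.Injective e := by
  intro j k h
  by_contra hne
  have h1 := e_anti hne
  rw [h, e_sq] at h1
  have h2 := congrFun (congrFun h1 0) 0
  rw [Matrix.neg_apply, Matrix.one_apply_eq] at h2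
  exact absurd h2 (by decide)

/-- Lifted transposition. -/
def t (i j : Fin 8) : Mat16 := e i - e j

lemma t_sq {i j : Fin 8} (h : i ≠ j) : t i j * t i j = -1 := by
  rw [t, mul_sub, sub_mul, sub_mul, e_sq, e_sq, e_anti h]
  have h3 : (3 : ZMod 3) = 0 := by decide
  ext f g
  simp only [Matrix.sub_apply, Matrix.neg_apply, Matrix.one_apply]
  split
  · linear_combination h3
  · ring

lemma t_conj {i j : Fin 8} (h : i ≠ j) (k : Fin 8) :
    t i j * e k = -(e (swap i j k) * t i j) := by
  rcases eq_or_ne k i with rfl | hki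
  · rw [swap_apply_left, t, sub_mul, mul_sub, e_sq, e_sq]
    abel
  rcases eq_or_ne k j with rfl | hkj
  · rw [swap_apply_right, t, sub_mul, mul_sub, e_sq, e_sq]
    abel
  rw [swap_apply_of_ne_of_ne hki hkj, t, sub_mul, mul_sub, e_anti hki.symm, e_anti hkj.symm]
  abel

lemma t_anti {i j k l : Fin 8} (hik : i ≠ k) (hil : i ≠ l) (hjk : j ≠ k) (hjl : j ≠ l) :
    t i j * t k l = -(t k l * t i j) := by
  simp only [t, sub_mul, mul_sub]
  rw [e_anti hik, e_anti hil, e_anti hjk, e_anti hjl]
  abel

/-- The unit attached to a lifted transposition. -/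
def tu {i j : Fin 8} (h : i ≠ j) : Mat16ˣ where
  val := t i j
  inv := -t i j
  val_inv := by rw [mul_neg, t_sq h, neg_neg]
  inv_val := by rw [neg_mul, t_sq h, neg_neg]

/-- Generators of the double cover. -/
def gens : Set Mat16ˣ :=
  {x | ∃ (i j k l : Fin 8) (h : i ≠ j) (h' : k ≠ l), x = tu h * tu h'}

/-- The double cover of `Alt 8`. -/
def cover : Subgroup Mat16ˣ := Subgroup.closure gens

/-- `x` permutes the generators as `σ`. -/
def Acts (x : Mat16ˣ) (σ : Perm (Fin 8)) : Prop :=
  ∀ k, (x : Mat16) * e k = e (σ k) * (x : Mat16)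

lemma Acts.one : Acts 1 1 := fun k => by simp

lemma Acts.mul {x y : Mat16ˣ} {σ τ : Perm (Fin 8)} (hx : Acts x σ) (hy : Acts y τ) :
    Acts (x * y) (σ * τ) := fun k => by
  rw [Units.val_mul, mul_assoc, hy, ← mul_assoc, hx, mul_assoc, Perm.mul_apply]

lemma Acts.inv {x : Mat16ˣ} {σ : Perm (Fin 8)} (hx : Acts x σ) : Acts x⁻¹ σ⁻¹ := fun k => by
  have h := hx (σ⁻¹ k)
  rw [← Perm.mul_apply, mul_inv_cancel, Perm.one_apply] at h
  calc (↑x⁻¹ : Mat16) * e k = ↑x⁻¹ * (e k * ↑x) * ↑x⁻¹ := by
        rw [mul_assoc, mul_assoc, Units.mul_inv, mul_one]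
    _ = ↑x⁻¹ * (↑x * e (σ⁻¹ k)) * ↑x⁻¹ := by rw [h]
    _ = e (σ⁻¹ k) * ↑x⁻¹ := by rw [← mul_assoc (↑x⁻¹ : Mat16), Units.inv_mul, one_mul]

lemma Acts.unique {x : Mat16ˣ} {σ τ : Perm (Fin 8)} (hσ : Acts x σ) (hτ : Acts x τ) : σ = τ :=
  Equiv.ext fun k => e_injective (x.isUnit.mul_left_injective ((hσ k).symm.trans (hτ k)))

lemma acts_tt {i j k l : Fin 8} (h : i ≠ j) (h' : k ≠ l) :
    Acts (tu h * tu h') (swap i j * swap k l) := fun m => by
  show t i j * t k l * e m = e ((swap i j * swap k l) m) * (t i j * t k l)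
  rw [mul_assoc, t_conj h', mul_neg, ← mul_assoc, t_conj h, neg_mul, neg_neg, mul_assoc]
  rfl

lemma exists_acts {x : Mat16ˣ} (hx : x ∈ cover) :
    ∃ σ : alternatingGroup (Fin 8), Acts x σ := by
  induction hx using Subgroup.closure_induction with
  | mem y hy =>
    obtain ⟨i, j, k, l, h, h', rfl⟩ := hy
    refine ⟨⟨swap i j * swap k l, ?_⟩, acts_tt h h'⟩
    show Perm.sign (swap i j * swap k l) = 1
    rw [map_mul, sign_swap h, sign_swap h']; decide
  | one => exact ⟨1, Acts.one⟩
  | mul a b _ _ iha ihb =>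
    obtain ⟨σ, hσ⟩ := iha
    obtain ⟨τ, hτ⟩ := ihb
    exact ⟨σ * τ, hσ.mul hτ⟩
  | inv a _ iha =>
    obtain ⟨σ, hσ⟩ := iha
    exact ⟨σ⁻¹, hσ.inv⟩

noncomputable def toPerm : cover →* alternatingGroup (Fin 8) where
  toFun x := (exists_acts x.2).choose
  map_one' := Subtype.ext ((exists_acts (1 : cover).2).choose_spec.unique Acts.one)
  map_mul' a b := Subtype.ext ((exists_acts (a * b).2).choose_spec.unique
    ((exists_acts a.2).choose_spec.mul (exists_acts b.2).choose_spec))

lemma toPerm_spec (x : cover) : Acts (x : Mat16ˣ) (toPerm x : Perm (Fin 8)) :=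
  (exists_acts x.2).choose_spec

lemma toPerm_eq (x : cover) {σ : Perm (Fin 8)} (h : Acts (x : Mat16ˣ) σ) :
    (toPerm x : Perm (Fin 8)) = σ := (toPerm_spec x).unique h

lemma tt_mem {i j k l : Fin 8} (h : i ≠ j) (h' : k ≠ l) : tu h * tu h' ∈ cover :=
  Subgroup.subset_closure ⟨i, j, k, l, h, h', rfl⟩

lemma toPerm_surjective : Function.Surjective toPerm := by
  have key : ∀ g ∈ Subgroup.closure {g : Perm (Fin 8) | IsThreeCycle g},
      ∃ x : cover, (toPerm x : Perm (Fin 8)) = g := by
    intro g hg
    induction hg using Subgroup.closure_induction with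
    | mem y hy =>
      obtain ⟨a, b, c, hab, hac, hbc, rfl⟩ :
          ∃ a b c : Fin 8, a ≠ b ∧ a ≠ c ∧ b ≠ c ∧ y = swap a c * swap a b := by
        obtain ⟨a, ha⟩ : ∃ a, y a ≠ a := by
          by_contra hcon
          push Not at hcon
          have : y = 1 := Equiv.ext hcon
          subst this
          exact absurd hy.orderOf (by rw [orderOf_one]; decide)
        have h3 : y ^ 3 = 1 := by rw [← hy.orderOf, pow_orderOf_eq_one]
        refine ⟨a, y a, y (y a), fun h => ha h.symm, ?_, fun h => ha (y.injective h).symm, ?_⟩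
        · intro h
          have e3 : y (y (y a)) = a := by
            have := Equiv.ext_iff.1 h3 a
            simpa [pow_succ] using this
          rw [← h] at e3
          exact ha e3
        · have e3 : y (y (y a)) = a := by
            have := Equiv.ext_iff.1 h3 a
            simpa [pow_succ] using this
          have hcard : y.support = {a, y a, y (y a)} := by
            have hne2 : a ≠ y (y a) := fun h => ha (by rw [← h] at e3; exact e3)
            refine (Finset.eq_of_subset_of_card_le ?_ ?_).symm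
            · intro w hw
              simp only [Finset.mem_insert, Finset.mem_singleton] at hw
              rcases hw with rfl | rfl | rfl <;> simp only [Perm.mem_support, ne_eq]
              · exact ha
              · exact fun h => ha (y.injective h)
              · exact fun h => ha (y.injective (y.injective h))
            · rw [hy.card_support, Finset.card_eq_three.2 ⟨a, y a, y (y a), fun h => ha h.symm,
                hne2, fun h => ha (y.injective h).symm, rfl⟩]
          apply Equiv.ext
          intro w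
          by_cases hw : w ∈ y.support
          · rw [hcard] at hw
            simp only [Finset.mem_insert, Finset.mem_singleton] at hw
            have h12 : y a ≠ y (y a) := fun h => ha (y.injective h).symm
            have h02 : a ≠ y (y a) := fun h => ha (by rw [← h] at e3; exact e3)
            rcases hw with rfl | rfl | rfl <;> simp [Perm.mul_apply, swap_apply_def, ha,
              h12, e3, h12.symm, h02.symm]
          · have hw' := Perm.notMem_support.1 hw
            rw [hcard] at hw
            simp only [Finset.mem_insert, Finset.mem_singleton, not_or] at hw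
            rw [hw', Perm.mul_apply, swap_apply_of_ne_of_ne hw.1 hw.2.1,
              swap_apply_of_ne_of_ne hw.1 hw.2.2]
      exact ⟨⟨_, tt_mem hac hab⟩, toPerm_eq _ (acts_tt hac hab)⟩
    | one => exact ⟨1, by rw [map_one]; rfl⟩
    | mul a b _ _ iha ihb =>
      obtain ⟨x, rfl⟩ := iha
      obtain ⟨y, rfl⟩ := ihb
      exact ⟨x * y, by rw [map_mul]; rfl⟩
    | inv a _ iha =>
      obtain ⟨x, rfl⟩ := iha
      exact ⟨x⁻¹, by rw [map_inv]; rfl⟩
  intro g
  obtain ⟨x, hx⟩ := key g (by rw [Equiv.Perm.closure_three_cycles_eq_alternating]; exact g.2)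
  exact ⟨x, Subtype.ext hx⟩

def spanList : Fin 8 → List (Fin 8) :=
  ![[1], [2, 3, 5, 7], [0, 1, 2, 6, 7], [4, 5, 6, 7], [0], [0, 1, 3, 5, 7], [0, 1, 2, 5, 6],
    [0, 1, 2, 3, 4]]

def reprList (a b : V16) : List (Fin 8) :=
  ((List.finRange 8).filter fun i : Fin 8 => (a.val + 16 * b.val).testBit i.val).flatMap spanList

lemma reprList_spec : ∀ a b : V16, (reprList a b).foldr
    (fun k p => (genA k ^^^ p.1, genB k ^^^ p.2)) (0, 0) = (a, b) := by decide +kernel

lemma commute_op {M : Mat16} (h : ∀ k, Commute M (e k)) (a b : V16) : Commute M (op a b) := by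
  have key : ∀ L : List (Fin 8), Commute M (op
      (L.foldr (fun k p => (genA k ^^^ p.1, genB k ^^^ p.2)) (0, 0)).1
      (L.foldr (fun k p => (genA k ^^^ p.1, genB k ^^^ p.2)) (0, 0)).2) := by
    intro L
    induction L with
    | nil => rw [List.foldr_nil, op_zero]; exact Commute.one_right M
    | cons k L ih =>
      rw [List.foldr_cons]
      have h1 := (h k).mul_right ih
      rw [e, op_mul] at h1
      have h2 := h1.smul_right (sgn (genB k) (L.foldr
        (fun k p => (genA k ^^^ p.1, genB k ^^^ p.2)) ((0, 0) : V16 × V16)).1)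
      rwa [smul_smul, sgn_sq, one_smul] at h2
  have := key (reprList a b)
  rwa [reprList_spec] at this

lemma sgn_separates : ∀ f g : V16, f ≠ g → ∃ b, sgn b f ≠ sgn b g := by decide +kernel

lemma scalar_of_commute {M : Mat16} (h : ∀ k, Commute M (e k)) :
    M = (M 0 0) • (1 : Mat16) := by
  have hr : ∀ f a b g, (M * op a b) f g = M f (g ^^^ a) * sgn b g := by
    intro f a b g
    rw [Matrix.mul_apply, Finset.sum_eq_single (g ^^^ a)]
    · simp [op]
    · intro x _ hx; simp [op, hx]
    · intro hh; exact absurd (Finset.mem_univ _) hh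
  have hl : ∀ f a b g, (op a b * M) f g = sgn b (f ^^^ a) * M (f ^^^ a) g := by
    intro f a b g
    rw [Matrix.mul_apply, Finset.sum_eq_single (f ^^^ a)]
    · simp [op, xor_assoc']
    · intro x _ hx
      have : f ≠ x ^^^ a := fun hf => hx (by rw [hf, xor_assoc', xor_self', xor_zero'])
      simp [op, this]
    · intro hh; exact absurd (Finset.mem_univ _) hh
  have hc : ∀ f a b g, M f (g ^^^ a) * sgn b g = sgn b (f ^^^ a) * M (f ^^^ a) g := by
    intro f a b g
    rw [← hr, ← hl, (commute_op h a b).eq]
  ext f g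
  rw [Matrix.smul_apply, smul_eq_mul, Matrix.one_apply]
  by_cases hfg : f = g
  · subst hfg
    rw [if_pos rfl, mul_one]
    have := hc f f 0 0
    rw [xor_comm' 0 f, xor_zero', xor_self', sgn_zero, mul_one, one_mul] at this
    exact this
  · rw [if_neg hfg, mul_zero]
    obtain ⟨b, hb⟩ := sgn_separates f g hfg
    have := hc f 0 b g
    rw [xor_zero', xor_zero'] at this
    by_contra hM
    exact hb (mul_left_cancel₀ hM (this.trans (mul_comm _ _))).symm

lemma eq_one_or_neg_one_of_toPerm {x : cover} (h : toPerm x = 1) :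
    (x : Mat16ˣ) = 1 ∨ (x : Mat16ˣ) = -1 := by
  have h1 : ∀ k, Commute ((x : Mat16ˣ) : Mat16) (e k) := fun k => by
    have := toPerm_spec x k
    rw [h, Subgroup.coe_one, Perm.one_apply] at this
    exact this
  have h2 := scalar_of_commute h1
  have h3 : ∀ c : ZMod 3, c = 0 ∨ c = 1 ∨ c = -1 := by decide
  rcases h3 (((x : Mat16ˣ) : Mat16) 0 0) with h4 | h4 | h4 <;> rw [h4] at h2
  · exfalso
    rw [zero_smul] at h2
    exact (x : Mat16ˣ).ne_zero h2
  · left; exact Units.ext (by rw [h2, one_smul]; rfl)
  · right; exact Units.ext (by rw [h2, neg_one_smul]; rfl)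

lemma pair_sq {i j k l : Fin 8} (h : i ≠ j) (h' : k ≠ l) (hik : i ≠ k) (hil : i ≠ l)
    (hjk : j ≠ k) (hjl : j ≠ l) : (tu h * tu h') * (tu h * tu h') = -1 := by
  apply Units.ext
  show t i j * t k l * (t i j * t k l) = -1
  have h1 : t k l * t i j = -(t i j * t k l) := by
    rw [t_anti hik hil hjk hjl, neg_neg]
  calc t i j * t k l * (t i j * t k l) = t i j * (t k l * t i j) * t k l := by noncomm_ring
    _ = -((t i j * t i j) * (t k l * t k l)) := by rw [h1]; noncomm_ring
    _ = -1 := by rw [t_sq h, t_sq h']; noncomm_ring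

lemma neg_one_mem_cover : (-1 : Mat16ˣ) ∈ cover := by
  rw [← pair_sq (i := 0) (j := 1) (k := 2) (l := 3) (by decide) (by decide) (by decide)
    (by decide) (by decide) (by decide)]
  exact cover.mul_mem (tt_mem _ _) (tt_mem _ _)

lemma neg_one_ne_one : (-1 : Mat16ˣ) ≠ 1 := by
  intro h
  have h0 : ((-1 : Mat16ˣ) : Mat16) = ((1 : Mat16ˣ) : Mat16) := by rw [h]
  rw [Units.val_neg, Units.val_one] at h0
  have h1 := congrFun (congrFun h0 0) 0
  rw [Matrix.neg_apply, Matrix.one_apply_eq] at h1
  exact absurd h1 (by decide)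

/-- The central involution. -/
def negOne : cover := ⟨-1, neg_one_mem_cover⟩

lemma negOne_ne_one : negOne ≠ 1 := fun h => neg_one_ne_one (congrArg Subtype.val h)

lemma negOne_sq : negOne * negOne = 1 := Subtype.ext (neg_one_mul (-1 : Mat16ˣ) |>.trans
  (neg_neg (1 : Mat16ˣ)))

lemma toPerm_negOne : toPerm negOne = 1 := by
  apply Subtype.ext
  apply toPerm_eq
  intro k
  show ((-1 : Mat16ˣ) : Mat16) * e k = e k * ((-1 : Mat16ˣ) : Mat16)
  rw [Units.val_neg, Units.val_one, neg_one_mul, mul_neg_one]

lemma center_cover : Subgroup.center cover = toPerm.ker := by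
  apply le_antisymm
  · intro x hx
    have h1 : toPerm x ∈ Subgroup.center (alternatingGroup (Fin 8)) := by
      rw [Subgroup.mem_center_iff]
      intro g
      obtain ⟨y, rfl⟩ := toPerm_surjective g
      rw [← map_mul, ← map_mul, Subgroup.mem_center_iff.1 hx y]
    rw [alternatingGroup.center_eq_bot (by simp)] at h1
    exact h1
  · intro x hx
    rw [Subgroup.mem_center_iff]
    intro y
    apply Subtype.ext
    rcases eq_one_or_neg_one_of_toPerm hx with h | h
    · show (y : Mat16ˣ) * x = x * y
      rw [h, mul_one, one_mul]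
    · show (y : Mat16ˣ) * x = x * y
      rw [h, mul_neg_one, neg_one_mul]

lemma mem_center_cover {x : cover} : x ∈ Subgroup.center cover ↔ x = 1 ∨ x = negOne := by
  rw [center_cover]
  constructor
  · intro h
    exact (eq_one_or_neg_one_of_toPerm h).imp Subtype.ext Subtype.ext
  · rintro (rfl | rfl)
    · exact Subgroup.one_mem _
    · exact toPerm_negOne

lemma isNonsplit_cover : Cfsg.IsNonsplitDoubleCover cover (alternatingGroup (Fin 8)) := by
  refine ⟨?_, ⟨(QuotientGroup.quotientMulEquivOfEq center_cover).trans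
    (QuotientGroup.quotientKerEquivOfSurjective toPerm toPerm_surjective)⟩, ?_⟩
  · have : ((Subgroup.center cover : Subgroup cover) : Set cover) = {1, negOne} := by
      ext x; simp [mem_center_cover]
    rw [← SetLike.coe_sort_coe, this, Nat.card_coe_set_eq, Set.ncard_pair negOne_ne_one.symm]
  · intro L hL
    let w : cover := ⟨_, tt_mem (i := 0) (j := 1) (k := 2) (l := 3) (by decide) (by decide)⟩
    have hw : w * w = negOne := Subtype.ext (pair_sq (by decide) (by decide) (by decide)
      (by decide) (by decide) (by decide))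
    obtain ⟨⟨⟨c, hc⟩, ⟨l, hl⟩⟩, hcl⟩ := (Subgroup.isComplement'_def.1 hL).2 w
    have hcl' : c * l = w := hcl
    have hll : l * l = w * w := by
      rw [← hcl']
      have hcc : c * c = 1 := by
        rcases mem_center_cover.1 hc with rfl | rfl
        · exact one_mul 1
        · exact negOne_sq
      calc l * l = (c * c) * (l * l) := by rw [hcc, one_mul]
        _ = c * l * (c * l) := by
          rw [mul_assoc c l, ← mul_assoc l c, Subgroup.mem_center_iff.1 hc l]; group
    have h1 : negOne ∈ Subgroup.center cover ⊓ L :=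
      ⟨mem_center_cover.2 (Or.inr rfl), by rw [← hw, ← hll]; exact L.mul_mem hl hl⟩
    rw [hL.disjoint.eq_bot, Subgroup.mem_bot] at h1
    exact negOne_ne_one h1

lemma two_involutions : ∃ x y : cover, x ≠ y ∧ orderOf x = 2 ∧ orderOf y = 2 := by
  let a : Mat16ˣ := tu (show (0 : Fin 8) ≠ 1 by decide) * tu (show (2 : Fin 8) ≠ 3 by decide)
  let b : Mat16ˣ := tu (show (4 : Fin 8) ≠ 5 by decide) * tu (show (6 : Fin 8) ≠ 7 by decide)
  have ha : a * a = -1 := pair_sq _ _ (by decide) (by decide) (by decide) (by decide)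
  have hb : b * b = -1 := pair_sq _ _ (by decide) (by decide) (by decide) (by decide)
  have hab : b * a = a * b := by
    apply Units.ext
    show t 4 5 * t 6 7 * (t 0 1 * t 2 3) = t 0 1 * t 2 3 * (t 4 5 * t 6 7)
    have key : ∀ i j : Fin 8, i < 4 → j < 4 → Commute (t i j) (t 4 5 * t 6 7) := fun i j hi hj => by
      show t i j * (t 4 5 * t 6 7) = t 4 5 * t 6 7 * t i j
      rw [← mul_assoc, t_anti (by omega) (by omega) (by omega) (by omega), neg_mul, mul_assoc,
        t_anti (by omega) (by omega) (by omega) (by omega), mul_neg, neg_neg, mul_assoc]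
    exact ((key 0 1 (by decide) (by decide)).mul_left (key 2 3 (by decide) (by decide))).eq.symm
  have hu : (a * b) * (a * b) = 1 := by
    calc a * b * (a * b) = a * (b * a) * b := by group
      _ = a * a * (b * b) := by rw [hab]; group
      _ = 1 := by rw [ha, hb]; simp
  have habmem : a * b ∈ cover := cover.mul_mem (tt_mem _ _) (tt_mem _ _)
  let u : cover := ⟨a * b, habmem⟩
  have hperm : (toPerm u : Perm (Fin 8)) =
      (swap 0 1 * swap 2 3) * (swap 4 5 * swap 6 7) :=
    toPerm_eq u ((acts_tt _ _).mul (acts_tt _ _))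
  have hune : toPerm u ≠ 1 := by
    intro h
    rw [h, Subgroup.coe_one] at hperm
    exact absurd hperm (by decide)
  refine ⟨negOne, u, fun h => hune (h ▸ toPerm_negOne), ?_, ?_⟩
  · exact orderOf_eq_prime (by rw [pow_two, negOne_sq]) negOne_ne_one
  · exact orderOf_eq_prime (by rw [pow_two]; exact Subtype.ext hu)
      (fun h => hune (by rw [h, map_one]))

end CfsgLib.SporMisc.DoubleCoverAlt
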